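import Groth.Prelude.Def_AdFn
import Groth.Agent.AlgzW.PiPoints
import Groth.Agent.S17856

/-!
# Points of schemes in adele rings
-/

set_option autoImplicit false
universe u

open CategoryTheory CategoryTheory.Limits AlgebraicGeometry Opposite

namespace Groth.Agent.AdelePts

/-- Points of a separated scheme in a ring with a jointly injective family of maps are determined componentwise. -/
theorem over_ext {B R : Type u} [CommRing B] [CommRing R] (φ : B →+* R)
    {Y : Over (Spec (CommRingCat.of B))} [IsSeparated Y.hom] {ι : Type*} {A : ι → Type u} [∀ i, CommRing (A i)]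
    (ψ : ∀ i, R →+* A i) (hinj : ∀ r, (∀ i, ψ i r = 0) → r = 0) (f g : AdFn.specOf φ ⟶ Y)
    (h : ∀ i, Spec.map (CommRingCat.ofHom (ψ i)) ≫ f.left = Spec.map (CommRingCat.ofHom (ψ i)) ≫ g.left) :
    f = g := by
  haveI : IsClosedImmersion (equalizer.ι f g).left := isClosedImmersion_equalizer_ι_left f g
  let e : (equalizer f g).left ⟶ Spec (CommRingCat.of R) := (equalizer.ι f g).left
  haveI : IsClosedImmersion e := ‹_›
  have hl : ∀ i, ∃ l : Spec (CommRingCat.of (A i)) ⟶ (equalizer f g).left,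
      l ≫ e = Spec.map (CommRingCat.ofHom (ψ i)) := fun i => by
    let T : Over (Spec (CommRingCat.of B)) :=
      Over.mk (Spec.map (CommRingCat.ofHom (ψ i)) ≫ (AdFn.specOf φ).hom)
    let t : T ⟶ AdFn.specOf φ := Over.homMk (Spec.map (CommRingCat.ofHom (ψ i))) rfl
    let l := equalizer.lift t (show t ≫ f = t ≫ g from Over.OverMorphism.ext (h i))
    exact ⟨l.left, congrArg CommaMorphism.left (equalizer.lift_ι t _)⟩
  haveI : IsAffine (equalizer f g).left := isAffine_of_isAffineHom e
  have hsurj : Function.Surjective e.appTop := Scheme.Hom.app_surjective e ⊤ (isAffineOpen_top _)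
  have hinj' : Function.Injective e.appTop := by
    rw [injective_iff_map_eq_zero]
    intro r hr
    have h0 : (Scheme.ΓSpecIso (CommRingCat.of R)).hom r = 0 := hinj _ fun i => by
      obtain ⟨l, hl⟩ := hl i
      have h1 := congr($(congrArg Scheme.Hom.appTop hl).hom r)
      rw [Scheme.Hom.comp_appTop] at h1
      have h2 := congr($(Scheme.ΓSpecIso_naturality (CommRingCat.ofHom (ψ i))).hom r)
      simp only [CommRingCat.hom_comp, RingHom.comp_apply, CommRingCat.hom_ofHom] at h1 h2
      refine h2.symm.trans ?_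
      rw [← h1]
      erw [hr]
      simp
    exact (map_eq_zero_iff _ (ConcreteCategory.bijective_of_isIso (Scheme.ΓSpecIso (CommRingCat.of R)).hom).1).1 h0
  haveI : IsIso e.appTop := (ConcreteCategory.isIso_iff_bijective _).2 ⟨hinj', hsurj⟩
  haveI : IsIso e := ((MorphismProperty.isomorphisms Scheme).arrow_mk_iso_iff (arrowIsoSpecΓOfIsAffine e)).2
    (inferInstanceAs (IsIso (Spec.map e.appTop)))
  refine Over.OverMorphism.ext ((cancel_epi e).1 ?_)
  exact congrArg CommaMorphism.left (equalizer.condition f g)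

/-- A ring homomorphism out of an algebra of finite type lands in a subring as soon as the generators do. -/
theorem exists_generators {B C : Type u} [CommRing B] [CommRing C] {ρ : B →+* C} (hρ : ρ.FiniteType) :
    ∃ s : Finset C, ∀ {D : Type u} [CommRing D] (c : C →+* D) (T : Subring D),
      (∀ b, c (ρ b) ∈ T) → (∀ x ∈ s, c x ∈ T) → ∀ x, c x ∈ T := by
  letI := ρ.toAlgebra
  obtain ⟨s, hs⟩ := (hρ : Algebra.FiniteType B C).out
  refine ⟨s, fun {D} _ c T hb hs' x => ?_⟩
  have hx : x ∈ Algebra.adjoin B (s : Set C) := hs ▸ Algebra.mem_top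
  induction hx using Algebra.adjoin_induction with
  | mem x hx => exact hs' x hx
  | algebraMap r => exact hb r
  | add x y _ _ hx hy => rw [map_add]; exact add_mem hx hy
  | mul x y _ _ hx hy => rw [map_mul]; exact mul_mem hx hy

variable {k K : Type u} [Field k] [Field K] [Algebra k K]

/-- The component at `v` of the ring `∏_{v ∈ S'} K_v × ∏_{v ∉ S'} O_v`. -/
noncomputable def T (S' : Set (FunFld.Place k K)) (v : FunFld.Place k K) : Subring (AdFn.Kv v) :=
  open scoped Classical in if v ∈ S' then ⊤ else (AdFn.Ov v).toSubring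

lemma mem_T_of_mem_Ov (S' : Set (FunFld.Place k K)) (v : FunFld.Place k K) {a : AdFn.Kv v}
    (ha : a ∈ AdFn.Ov v) : a ∈ T S' v := by
  unfold T; split_ifs
  · trivial
  · exact ha

lemma mem_T_of_mem (S' : Set (FunFld.Place k K)) {v : FunFld.Place k K} (hv : v ∈ S') (a : AdFn.Kv v) :
    a ∈ T S' v := by
  unfold T; rw [if_pos hv]; trivial

lemma mem_Ov_of_mem_T {S' : Set (FunFld.Place k K)} {v : FunFld.Place k K} (hv : v ∉ S') {a : AdFn.Kv v}
    (ha : a ∈ T S' v) : a ∈ AdFn.Ov v := by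
  unfold T at ha; rwa [if_neg hv] at ha

/-- `∏_{v ∈ S'} K_v × ∏_{v ∉ S'} O_v → A_K`. -/
noncomputable def toAdele {S' : Set (FunFld.Place k K)} (hS' : S'.Finite) :
    (∀ v, T S' v) →+* AdFn.AdeleRing k K where
  toFun a := ⟨fun v => (a v : AdFn.Kv v), Filter.eventually_cofinite.2 (hS'.subset fun v hv => by
    by_contra h
    exact hv (mem_Ov_of_mem_T h (a v).2))⟩
  map_one' := rfl
  map_mul' _ _ := rfl
  map_zero' := rfl
  map_add' _ _ := rfl

lemma proj_toAdele {S' : Set (FunFld.Place k K)} (hS' : S'.Finite) (v : FunFld.Place k K) :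
    (AdFn.AdeleRing.proj v).comp (toAdele hS') = (T S' v).subtype.comp (Pi.evalRingHom _ v) := rfl

variable {S : Set (FunFld.Place k K)}

section Image

variable [AdFn.HasFinitePoles k K]

open Groth.Agent.AlgzW.PiPoints in
/-- A point of a scheme of finite type in the adele ring is integral at almost all places. -/
theorem eventually_integral (hS : S.Finite) (Y : Over (Spec (CommRingCat.of (AdFn.SInt S))))
    [LocallyOfFiniteType Y.hom] [QuasiCompact Y.hom] (f : AdFn.specOf (AdFn.SInt.toAd S) ⟶ Y) :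
    ∀ᶠ v in Filter.cofinite, ∃ hv : v ∉ S, ∃ z : AdFn.specOf (AdFn.SInt.toOv S hv) ⟶ Y,
      AdFn.intResHom S hv ≫ z = AdFn.adProjSHom S v ≫ f := by
  classical
  haveI : CompactSpace Y.left := QuasiCompact.compactSpace_of_compactSpace Y.hom
  obtain ⟨n, U, hU, hcov⟩ := exists_affine_cover Y.left
  obtain ⟨a, hspan, haU⟩ := exists_cover_elems (R := AdFn.AdeleRing k K)
    (fun j => f.left ⁻¹ᵁ U j) fun x => hcov (f.left x)
  choose φ hφ using fun j => exists_factor (hU j) (loc (a j) ≫ f.left) fun x => haU j ⟨x, rfl⟩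
  have hρ : ∀ j, ∃ ρ : AdFn.SInt S →+* Γ(Y.left, U j),
      Spec.map (CommRingCat.ofHom ρ) = (hU j).fromSpec ≫ Y.hom ∧ ρ.FiniteType := fun j => by
    obtain ⟨ρ, hρ⟩ := Spec.map_surjective ((hU j).fromSpec ≫ Y.hom)
    refine ⟨ρ.hom, hρ, ?_⟩
    exact (HasRingHomProperty.Spec_iff (P := @LocallyOfFiniteType)).1
      (show LocallyOfFiniteType (Spec.map ρ) by rw [hρ]; infer_instance)
  choose ρ hρ hft using hρ
  choose gen hgen using fun j => exists_generators (hft j)
  obtain ⟨b, hb⟩ := Ideal.mem_span_range_iff_exists_fun.1 (hspan ▸ Submodule.mem_top (x := (1 : AdFn.AdeleRing k K)))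
  have hsurj : ∀ (j) (s : gen j), ∃ (m : ℕ) (r : AdFn.AdeleRing k K),
      φ j s * algebraMap _ (Localization.Away (a j)) (a j) ^ m = algebraMap _ _ r := fun j s =>
    IsLocalization.Away.surj (a j) (φ j s)
  choose m r hr using hsurj
  filter_upwards [hS.compl_mem_cofinite, Filter.eventually_all.2 fun j => (a j).2,
    Filter.eventually_all.2 fun j => (b j).2,
    Filter.eventually_all.2 fun j => Filter.eventually_all.2 fun s => (r j s).2] with v hvS hva hvb hvr
  have hv : v ∉ S := hvS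
  refine ⟨hv, ?_⟩
  let p := AdFn.AdeleRing.proj (k := k) (K := K) v
  let a' : Fin n → AdFn.Ov v := fun j => ⟨p (a j), hva j⟩
  obtain ⟨j, hj⟩ : ∃ j, IsUnit (a' j) := by
    by_contra hne
    push Not at hne
    have h1 : (1 : AdFn.Ov v) = ∑ j, (⟨p (b j), hvb j⟩ : AdFn.Ov v) * a' j := by
      apply Subtype.val_injective
      push_cast
      rw [← map_one p, ← hb, map_sum]
      simp [a', p]
    have h2 : (1 : AdFn.Ov v) ∈ IsLocalRing.maximalIdeal (AdFn.Ov v) := by
      rw [h1]
      exact Ideal.sum_mem _ fun j _ => Ideal.mul_mem_left _ _ ((IsLocalRing.mem_maximalIdeal _).2 (hne j))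
    exact (IsLocalRing.maximalIdeal.isMaximal _).ne_top ((Ideal.eq_top_iff_one _).2 h2)
  have hunit : IsUnit (p (a j)) := hj.map (AdFn.Ov v).subtype
  let χ : Localization.Away (a j) →+* AdFn.Kv v := IsLocalization.Away.lift (S := Localization.Away (a j)) (a j) hunit
  have hχ : χ.comp (algebraMap _ _) = p := IsLocalization.Away.lift_comp (a j) hunit
  have hχ' : ∀ x, χ (algebraMap _ _ x) = p x := fun x => RingHom.congr_fun hχ x
  have hloc : Spec.map (CommRingCat.ofHom χ) ≫ loc (a j) = Spec.map (CommRingCat.ofHom p) := by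
    rw [← Spec.map_comp, ← CommRingCat.ofHom_comp, hχ]
  have hbase : (φ j).comp (ρ j) = (algebraMap _ _).comp (AdFn.SInt.toAd S) := by
    have h : Spec.map (CommRingCat.ofHom ((φ j).comp (ρ j))) =
        Spec.map (CommRingCat.ofHom ((algebraMap _ (Localization.Away (a j))).comp (AdFn.SInt.toAd S))) := by
      rw [CommRingCat.ofHom_comp, Spec.map_comp, hρ j, ← Category.assoc, ← hφ j, Category.assoc, Over.w f,
        CommRingCat.ofHom_comp, Spec.map_comp]
      rfl
    exact congrArg CommRingCat.Hom.hom (Spec.map_injective h)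
  let c := χ.comp (φ j)
  have hcρ : ∀ x, c (ρ j x) = AdFn.SInt.toKv S v x := fun x =>
    (congrArg χ (RingHom.congr_fun hbase x)).trans (hχ' _)
  have hc : ∀ x, c x ∈ (AdFn.Ov v).toSubring := by
    refine hgen j c _ (fun x => ?_) fun s hs => ?_
    · rw [hcρ]; exact (AdFn.toKv_mem_Ov v x.1).2 (x.2 v hv)
    · obtain ⟨u, hu⟩ := hj
      have h := congrArg χ (hr j ⟨s, hs⟩)
      rw [map_mul, map_pow, hχ', hχ'] at h
      have h' : c s = ((⟨p (r j ⟨s, hs⟩), hvr j ⟨s, hs⟩⟩ * ((u⁻¹ : (AdFn.Ov v)ˣ) : AdFn.Ov v) ^ m j ⟨s, hs⟩ :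
          AdFn.Ov v) : AdFn.Kv v) := by
        push_cast
        rw [← h, mul_assoc, ← mul_pow]
        have hu1 : p (a j) * ((u⁻¹ : (AdFn.Ov v)ˣ) : AdFn.Kv v) = 1 := by
          have := congrArg Subtype.val u.mul_inv
          rw [hu] at this
          exact this
        rw [hu1, one_pow, mul_one]
        rfl
      rw [h']
      exact SetLike.coe_mem _
  let c' : Γ(Y.left, U j) →+* AdFn.Ov v := c.codRestrict (AdFn.Ov v).toSubring hc
  have hc'ρ : c'.comp (ρ j) = AdFn.SInt.toOv S hv :=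
    RingHom.ext fun x => Subtype.val_injective (hcρ x)
  refine ⟨Over.homMk (Spec.map (CommRingCat.ofHom c') ≫ (hU j).fromSpec) ?_, Over.OverMorphism.ext ?_⟩
  · refine (Category.assoc _ _ _).trans ?_
    rw [← hρ j, ← Spec.map_comp, ← CommRingCat.ofHom_comp, hc'ρ]
    rfl
  · change Spec.map (CommRingCat.ofHom (AdFn.Ov v).subtype) ≫ Spec.map (CommRingCat.ofHom c') ≫ (hU j).fromSpec =
      Spec.map (CommRingCat.ofHom p) ≫ f.left
    rw [← Spec.map_comp_assoc, ← CommRingCat.ofHom_comp, ← hloc, Category.assoc, hφ j, ← Spec.map_comp_assoc,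
      ← CommRingCat.ofHom_comp]
    rfl

/-- An almost everywhere integral family of points glues to a point in the adele ring. -/
theorem exists_point (hS : S.Finite) (Y : Over (Spec (CommRingCat.of (AdFn.SInt S))))
    [QuasiCompact Y.hom] [IsSeparated Y.hom] (y : ∀ v, AdFn.specOf (AdFn.SInt.toKv S v) ⟶ Y)
    (hy : ∀ᶠ v in Filter.cofinite, ∃ hv : v ∉ S, ∃ z : AdFn.specOf (AdFn.SInt.toOv S hv) ⟶ Y,
      AdFn.intResHom S hv ≫ z = y v) :
    ∃ f : AdFn.specOf (AdFn.SInt.toAd S) ⟶ Y, ∀ v, AdFn.adProjSHom S v ≫ f = y v := by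
  classical
  haveI : CompactSpace Y.left := QuasiCompact.compactSpace_of_compactSpace Y.hom
  haveI : QuasiSeparatedSpace Y.left := quasiSeparatedSpace_of_quasiSeparated Y.hom
  have hfin := Filter.eventually_cofinite.1 hy
  let S' := S ∪ hfin.toFinset
  have hS' : S'.Finite := hS.union (Finset.finite_toSet _)
  have hmem : ∀ v (x : AdFn.SInt S), AdFn.SInt.toKv S v x ∈ T S' v := fun v x => by
    by_cases hv : v ∈ S'
    · exact mem_T_of_mem S' hv _
    · exact mem_T_of_mem_Ov S' v ((AdFn.toKv_mem_Ov v x.1).2 (x.2 v fun h => hv (Or.inl h)))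
  let σ : ∀ v, AdFn.SInt S →+* T S' v := fun v => (AdFn.SInt.toKv S v).codRestrict _ (hmem v)
  let σ' : AdFn.SInt S →+* ∀ v, T S' v := RingHom.pi σ
  have hpt : ∀ v, ∃ t : AdFn.specOf (σ v) ⟶ Y,
      AdFn.specOfHom (σ v) (AdFn.SInt.toKv S v) (T S' v).subtype rfl ≫ t = y v := fun v => by
    by_cases hv : v ∈ S'
    · let j : AdFn.Kv v →+* T S' v := (RingHom.id _).codRestrict _ (mem_T_of_mem S' hv)
      refine ⟨AdFn.specOfHom _ _ j rfl ≫ y v, Over.OverMorphism.ext ?_⟩
      change Spec.map (CommRingCat.ofHom (T S' v).subtype) ≫ Spec.map (CommRingCat.ofHom j) ≫ (y v).left = _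
      rw [← Spec.map_comp_assoc, ← CommRingCat.ofHom_comp, show (T S' v).subtype.comp j = RingHom.id _ from rfl]
      simp
    · obtain ⟨hvS, z, hz⟩ : ∃ hv : v ∉ S, ∃ z : AdFn.specOf (AdFn.SInt.toOv S hv) ⟶ Y,
          AdFn.intResHom S hv ≫ z = y v := by
        by_contra h
        exact hv (Or.inr (hfin.mem_toFinset.2 h))
      let j : AdFn.Ov v →+* T S' v := (AdFn.Ov v).subtype.codRestrict _ fun a => mem_T_of_mem_Ov S' v a.2
      refine ⟨AdFn.specOfHom (AdFn.SInt.toOv S hvS) _ j rfl ≫ z, Over.OverMorphism.ext ?_⟩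
      rw [← hz]
      change Spec.map (CommRingCat.ofHom (T S' v).subtype) ≫ Spec.map (CommRingCat.ofHom j) ≫ z.left =
        Spec.map (CommRingCat.ofHom (AdFn.Ov v).subtype) ≫ z.left
      rw [← Spec.map_comp_assoc, ← CommRingCat.ofHom_comp]
      rfl
  choose t ht using hpt
  obtain ⟨F, hF⟩ := (Groth.Agent.S17856.result Y.left fun v => CommRingCat.of (T S' v)).2 fun v => (t v).left
  have hFw : F ≫ Y.hom = Spec.map (CommRingCat.ofHom σ') := by
    apply (Groth.Agent.S17856.result (Spec (CommRingCat.of (AdFn.SInt S))) fun v => CommRingCat.of (T S' v)).1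
    funext v
    refine ((Category.assoc _ _ _).symm.trans (congrArg (· ≫ Y.hom) (congrFun hF v))).trans ?_
    refine (Over.w (t v)).trans ?_
    exact (Spec.map_comp (CommRingCat.ofHom σ') (CommRingCat.ofHom (Pi.evalRingHom (fun w => T S' w) v)))
  let Fo : AdFn.specOf σ' ⟶ Y := Over.homMk F hFw
  refine ⟨AdFn.specOfHom σ' (AdFn.SInt.toAd S) (toAdele hS') rfl ≫ Fo, fun v => Over.OverMorphism.ext ?_⟩
  rw [← ht v]
  change Spec.map (CommRingCat.ofHom (AdFn.AdeleRing.proj v)) ≫ Spec.map (CommRingCat.ofHom (toAdele hS')) ≫ F =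
    Spec.map (CommRingCat.ofHom (T S' v).subtype) ≫ (t v).left
  rw [← congrFun hF v, ← Spec.map_comp_assoc, ← CommRingCat.ofHom_comp, proj_toAdele, CommRingCat.ofHom_comp,
    Spec.map_comp, Category.assoc]

end Image

end Groth.Agent.AdelePts
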