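import Groth.Agent.HResFun.Zero
import Groth.Prelude.Def_CGrpSh2

set_option autoImplicit false
universe u

open CategoryTheory CategoryTheory.Limits AlgebraicGeometry Opposite
open CategoryTheory.MonObj MonoidalCategory CartesianMonoidalCategory

namespace Groth.Agent.HResFun

variable (K : Precoverage Scheme.{u}) {S : Scheme.{u}} [(QuotSh.J K S).Subcanonical]
  (G : Over S) [GrpObj G] [IsCommMonObj G]

/-- The value of a character over `U` at the universal point of `U ⊗ G`. -/
noncomputable def univVal {U : Over S}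
    (φ : (CGrpSh.pts K G).over U ⟶ (CGrpSh2.Gm K S).over U) : U ⊗ G ⟶ Red.Gm S :=
  (φ.hom.app (op (Over.mk (fst U G))) (ULift.up (Additive.ofMul (snd U G)))).down.toMul

theorem app_eq_univVal {U : Over S} (φ : (CGrpSh.pts K G).over U ⟶ (CGrpSh2.Gm K S).over U)
    (T : Over U) (x : T.left ⟶ G) :
    (φ.hom.app (op T) (ULift.up (Additive.ofMul x))).down.toMul = lift T.hom x ≫ univVal K G φ := by
  let p : T ⟶ Over.mk (fst U G) := Over.homMk (lift T.hom x) (lift_fst T.hom x)
  have h := congr($(φ.hom.naturality p.op).hom (ULift.up (Additive.ofMul (snd U G))))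
  have hx : ((CGrpSh.pts K G).over U).obj.map p.op (ULift.up (Additive.ofMul (snd U G))) =
      ULift.up (Additive.ofMul x) := ULift.ext _ _ (congrArg Additive.ofMul (lift_snd T.hom x))
  refine Eq.trans ?_ (congrArg (fun z => z.down.toMul) h)
  exact (congrArg (fun z => (φ.hom.app (op T) z).down.toMul) hx).symm

theorem univVal_injective {U : Over S} : Function.Injective (univVal K G (U := U)) := fun φ φ' h => by
  apply Sheaf.hom_ext
  refine NatTrans.ext (funext fun T => AddCommGrpCat.ext fun z => ULift.ext _ _ (Additive.toMul.injective ?_))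
  exact (app_eq_univVal K G φ T.unop z.down.toMul).trans
    ((congrArg (fun q => lift T.unop.hom z.down.toMul ≫ q) h).trans (app_eq_univVal K G φ' T.unop z.down.toMul).symm)

theorem univVal_map {U U' : Over S} (g : U' ⟶ U)
    (φ : (CGrpSh.pts K G).over U ⟶ (CGrpSh2.Gm K S).over U) :
    univVal K G (((CGrpSh2.dualSh K (CGrpSh.pts K G)).obj.map g.op).hom φ) = g ▷ G ≫ univVal K G φ := by
  refine (app_eq_univVal K G φ ((Over.map g).obj (Over.mk (fst U' G))) (snd U' G)).trans ?_
  refine congrArg (· ≫ univVal K G φ) ?_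
  apply CartesianMonoidalCategory.hom_ext
  · rw [lift_fst, whiskerRight_fst]; rfl
  · rw [lift_snd, whiskerRight_snd]

/-- The function on `U ⊗ G` attached to a degree-zero class of the dual sheaf. -/
noncomputable def charFn {U : Over S} (x : BigSite.HU K (CGrpSh2.dualSh K (CGrpSh.pts K G)) 0 U) :
    U ⊗ G ⟶ Red.Gm S :=
  univVal K G (ev K (CGrpSh2.dualSh K (CGrpSh.pts K G)) U x)

theorem charFn_injective {U : Over S} : Function.Injective (charFn K G (U := U)) := fun _ _ h =>
  (ev K _ U).injective (univVal_injective K G h)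

theorem charFn_resHU {U U' : Over S} (g : U' ⟶ U)
    (x : BigSite.HU K (CGrpSh2.dualSh K (CGrpSh.pts K G)) 0 U) :
    charFn K G (HRes.resHU K (CGrpSh2.dualSh K (CGrpSh.pts K G)) 0 g x) = g ▷ G ≫ charFn K G x := by
  rw [charFn, ev_resHU]
  exact univVal_map K G g _

end Groth.Agent.HResFun
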