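import Groth.Agent.AdelePts.Basic
import Groth.Prelude.Def_Red
import Mathlib.AlgebraicGeometry.Pullbacks
import Mathlib.LinearAlgebra.TensorProduct.Basis

set_option autoImplicit false
universe u

open CategoryTheory CategoryTheory.Limits AlgebraicGeometry Opposite TensorProduct
open MonoidalCategory CartesianMonoidalCategory

namespace Groth.Agent.AdelePts

/-- Over a field, tensoring preserves jointly injective families. -/
theorem tensor_jointly_injective {K B A : Type u} [Field K] [CommRing B] [Algebra K B] [CommRing A] [Algebra K A]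
    {ι : Type*} {A' : ι → Type u} [∀ i, CommRing (A' i)] [∀ i, Algebra K (A' i)] (ψ : ∀ i, A →ₐ[K] A' i)
    (hinj : ∀ a, (∀ i, ψ i a = 0) → a = 0) (z : B ⊗[K] A)
    (hz : ∀ i, Algebra.TensorProduct.map (AlgHom.id K B) (ψ i) z = 0) : z = 0 := by
  let b := Module.Free.chooseBasis K B
  refine (TensorProduct.equivFinsuppOfBasisLeft b).injective ?_
  rw [map_zero]
  ext j
  refine hinj _ fun i => ?_
  have h : ∀ w : B ⊗[K] A, TensorProduct.equivFinsuppOfBasisLeft b
      (Algebra.TensorProduct.map (AlgHom.id K B) (ψ i) w) j =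
      ψ i (TensorProduct.equivFinsuppOfBasisLeft b w j) := fun w => by
    induction w using TensorProduct.induction_on with
    | zero => simp
    | tmul x y => simp [TensorProduct.equivFinsuppOfBasisLeft_apply_tmul_apply]
    | add x y hx hy => simp [hx, hy]
  rw [← h, hz, map_zero, Finsupp.zero_apply]

/-- A scheme with affine generic fibre, tensored with a jointly injective family of algebras over the field:
maps to a separated scheme are determined on the members of the family. -/
theorem tensor_ext {B K A : Type u} [CommRing B] [Field K] [CommRing A] (κ : B →+* K) (α : K →+* A)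
    (G : Over (Spec (CommRingCat.of B)))
    [IsAffine (pullback G.hom (Spec.map (CommRingCat.ofHom κ)))]
    {ι : Type*} {A' : ι → Type u} [∀ i, CommRing (A' i)] (ψ : ∀ i, A →+* A' i)
    (hinj : ∀ a, (∀ i, ψ i a = 0) → a = 0) {Y : Over (Spec (CommRingCat.of B))} [IsSeparated Y.hom]
    (m m' : AdFn.specOf (α.comp κ) ⊗ G ⟶ Y)
    (h : ∀ i, (AdFn.specOfHom (α.comp κ) ((ψ i).comp (α.comp κ)) (ψ i) rfl ▷ G) ≫ m =
      (AdFn.specOfHom (α.comp κ) ((ψ i).comp (α.comp κ)) (ψ i) rfl ▷ G) ≫ m') : m = m' := by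
  let GK := pullback G.hom (Spec.map (CommRingCat.ofHom κ))
  let C := Γ(GK, ⊤)
  obtain ⟨γ, hγ⟩ := Spec.map_surjective (GK.isoSpec.inv ≫ pullback.snd G.hom (Spec.map (CommRingCat.ofHom κ)))
  algebraize [γ.hom, α]
  letI : ∀ i, Algebra K (A' i) := fun i => ((ψ i).comp α).toAlgebra
  let ψ' : ∀ i, A →ₐ[K] A' i := fun i => ⟨ψ i, fun _ => rfl⟩
  let cl : C →+* C ⊗[K] A := Algebra.TensorProduct.includeLeftRingHom
  let cr : A →+* C ⊗[K] A := (Algebra.TensorProduct.includeRight (R := K) (A := C) (B := A)).toRingHom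
  let pG : Spec (CommRingCat.of (C ⊗[K] A)) ⟶ G.left :=
    Spec.map (CommRingCat.ofHom cl) ≫ GK.isoSpec.inv ≫ pullback.fst G.hom (Spec.map (CommRingCat.ofHom κ))
  have hsq : IsPullback (Spec.map (CommRingCat.ofHom cl)) (Spec.map (CommRingCat.ofHom cr))
      (GK.isoSpec.inv ≫ pullback.snd G.hom (Spec.map (CommRingCat.ofHom κ))) (Spec.map (CommRingCat.ofHom α)) := by
    rw [← hγ]
    exact isPullback_SpecMap_of_isPushout _ _ _ _ (CommRingCat.isPushout_tensorProduct K C A)
  have hsq' : IsPullback pG (Spec.map (CommRingCat.ofHom cr)) G.hom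
      (Spec.map (CommRingCat.ofHom (α.comp κ))) := by
    have hfst : IsPullback (GK.isoSpec.inv ≫ pullback.fst G.hom (Spec.map (CommRingCat.ofHom κ)))
        (GK.isoSpec.inv ≫ pullback.snd G.hom (Spec.map (CommRingCat.ofHom κ))) G.hom
        (Spec.map (CommRingCat.ofHom κ)) :=
      (IsPullback.of_hasPullback _ _).of_iso GK.isoSpec (Iso.refl _) (Iso.refl _) (Iso.refl _)
        (by simp [GK]) (by simp [GK]) (by simp) (by simp)
    rw [CommRingCat.ofHom_comp, Spec.map_comp]
    exact hsq.paste_horiz hfst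
  let Q : AdFn.specOf (cr.comp (α.comp κ)) ⟶ AdFn.specOf (α.comp κ) ⊗ G :=
    lift (AdFn.specOfHom _ _ cr rfl) (Over.homMk pG (by
      refine hsq'.w.trans ?_
      exact (Spec.map_comp _ _).symm))
  haveI : IsIso Q.left := by
    have hQ : Q.left = (hsq'.flip.isoIsPullback _ _ (IsPullback.of_hasPullback (AdFn.specOf (α.comp κ)).hom G.hom)).hom := by
      apply pullback.hom_ext
      · refine Eq.trans ?_ (IsPullback.isoIsPullback_hom_fst _ _ hsq'.flip
          (IsPullback.of_hasPullback (AdFn.specOf (α.comp κ)).hom G.hom)).symm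
        exact congrArg CommaMorphism.left (lift_fst (AdFn.specOfHom (α.comp κ) _ cr rfl) _)
      · refine Eq.trans ?_ (IsPullback.isoIsPullback_hom_snd _ _ hsq'.flip
          (IsPullback.of_hasPullback (AdFn.specOf (α.comp κ)).hom G.hom)).symm
        exact congrArg CommaMorphism.left (lift_snd (AdFn.specOfHom (α.comp κ) _ cr rfl) _)
    rw [hQ]; infer_instance
  have hQe : Epi Q := by
    haveI : IsIso ((Over.forget _).map Q) := ‹_›
    haveI : IsIso Q := isIso_of_reflects_iso Q (Over.forget _)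
    infer_instance
  rw [← cancel_epi Q]
  refine over_ext (cr.comp (α.comp κ)) (fun i => (Algebra.TensorProduct.map (AlgHom.id K C) (ψ' i)).toRingHom)
    (tensor_jointly_injective ψ' hinj) _ _ fun i => ?_
  let Ti := (Algebra.TensorProduct.map (AlgHom.id K C) (ψ' i)).toRingHom
  let cr' : A' i →+* C ⊗[K] A' i :=
    (Algebra.TensorProduct.includeRight (R := K) (A := C) (B := A' i)).toRingHom
  have hcr : Ti.comp cr = cr'.comp (ψ i) := RingHom.ext fun a => by simp [Ti, cr, cr', ψ']
  let t : AdFn.specOf (Ti.comp (cr.comp (α.comp κ))) ⟶ AdFn.specOf (cr.comp (α.comp κ)) :=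
    AdFn.specOfHom _ _ Ti rfl
  have ht : ∃ q : AdFn.specOf (Ti.comp (cr.comp (α.comp κ))) ⟶ AdFn.specOf ((ψ i).comp (α.comp κ)) ⊗ G,
      t ≫ Q = q ≫ (AdFn.specOfHom (α.comp κ) ((ψ i).comp (α.comp κ)) (ψ i) rfl ▷ G) := by
    refine ⟨lift (AdFn.specOfHom _ _ cr' (by rw [← RingHom.comp_assoc, ← hcr, RingHom.comp_assoc]))
      (t ≫ Q ≫ snd _ _), ?_⟩
    apply CartesianMonoidalCategory.hom_ext
    · simp only [Category.assoc, Q, lift_fst, whiskerRight_fst, lift_fst_assoc]
      apply Over.OverMorphism.ext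
      change Spec.map (CommRingCat.ofHom Ti) ≫ Spec.map (CommRingCat.ofHom cr) =
        Spec.map (CommRingCat.ofHom cr') ≫ Spec.map (CommRingCat.ofHom (ψ i))
      rw [← Spec.map_comp, ← Spec.map_comp, ← CommRingCat.ofHom_comp, ← CommRingCat.ofHom_comp, hcr]
    · simp only [Category.assoc, whiskerRight_snd, lift_snd]
  obtain ⟨q, hq⟩ := ht
  have h2 : t ≫ Q ≫ m = t ≫ Q ≫ m' := by
    rw [← Category.assoc, ← Category.assoc, hq, Category.assoc, Category.assoc, h i]
  exact congrArg CommaMorphism.left h2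

end Groth.Agent.AdelePts
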