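import Groth.Agent.HResFun.Zero
import Groth.Prelude.Def_CGrpSh
import Groth.Prelude.Def_AdFn

set_option autoImplicit false
universe u

open CategoryTheory CategoryTheory.Limits AlgebraicGeometry Opposite
open CategoryTheory.MonObj

namespace Groth.Agent.HResFun

variable (K : Precoverage Scheme.{u}) {S : Scheme.{u}} [(QuotSh.J K S).Subcanonical]
  (G : Over S) [GrpObj G] [IsCommMonObj G]

/-- The point of `G` attached to a degree-zero class. -/
noncomputable def point {U : Over S} (x : BigSite.HU K (CGrpSh.pts K G) 0 U) : U ⟶ G :=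
  (ev K (CGrpSh.pts K G) U x).down.toMul

theorem point_injective {U : Over S} : Function.Injective (point K G (U := U)) := fun _ _ h =>
  (ev K (CGrpSh.pts K G) U).injective (ULift.ext _ _ (Additive.toMul.injective h))

theorem exists_point_eq {U : Over S} (f : U ⟶ G) : ∃ x, point K G (U := U) x = f :=
  ⟨(ev K (CGrpSh.pts K G) U).symm (ULift.up (Additive.ofMul f)), by
    rw [point, AddEquiv.apply_symm_apply]; rfl⟩

theorem point_resHU {U U' : Over S} (g : U' ⟶ U) (x : BigSite.HU K (CGrpSh.pts K G) 0 U) :
    point K G (HRes.resHU K (CGrpSh.pts K G) 0 g x) = g ≫ point K G x := by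
  rw [point, ev_resHU]
  rfl

end Groth.Agent.HResFun

namespace Groth.Agent.AdelePts

/-- Components of the product of the localisation maps. -/
theorem locProdS_apply (P : Precoverage Scheme.{u}) {k K : Type u} [Field k] [Field K] [Algebra k K]
    (S : Set (FunFld.Place k K)) [AdFn.HasFinitePoles k K]
    (F : BigSite.Ab P (Spec (CommRingCat.of (AdFn.SInt S)))) (n : ℕ) (x : AdFn.HAdS P S F n)
    (v : FunFld.Place k K) :
    AdFn.locProdS P S F n x v = HRes.resHU P F n (AdFn.adProjSHom S v) x := rfl

/-- Membership in the local subgroup at a place outside `S`. -/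
theorem exists_intRes_eq (P : Precoverage Scheme.{u}) {k K : Type u} [Field k] [Field K] [Algebra k K]
    (S : Set (FunFld.Place k K)) (F : BigSite.Ab P (Spec (CommRingCat.of (AdFn.SInt S)))) (n : ℕ)
    {v : FunFld.Place k K} (hv : v ∉ S) {y : AdFn.HLocS P S F n v} (hy : y ∈ AdFn.locSub P S F n v) :
    ∃ w, HRes.resHU P F n (AdFn.intResHom S hv) w = y :=
  (show AdFn.locSub P S F n v ≤ (AdFn.intRes P S F n hv).range from iSup_le fun _ => le_rfl) hy

/-- The local subgroup contains the restrictions of integral classes. -/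
theorem intRes_mem_locSub (P : Precoverage Scheme.{u}) {k K : Type u} [Field k] [Field K] [Algebra k K]
    (S : Set (FunFld.Place k K)) (F : BigSite.Ab P (Spec (CommRingCat.of (AdFn.SInt S)))) (n : ℕ)
    {v : FunFld.Place k K} (hv : v ∉ S) (w : AdFn.HInt P S F n hv) :
    HRes.resHU P F n (AdFn.intResHom S hv) w ∈ AdFn.locSub P S F n v :=
  le_iSup (fun hv : v ∉ S => (AdFn.intRes P S F n hv).range) hv ⟨w, rfl⟩

end Groth.Agent.AdelePts
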